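import Mathlib
import Cfsg.Agent.Prune
set_option linter.all false
prune_inst 0x7f00000000000000000000000000000000000000000000000000000000000000000000000000000000000000000000000000000000000000000000000000000000000000000000000000000000000000003fffffffffffffffffffffffffffbeffbdffffffff
open scoped Cfsg.Agent.FastGrp

/-!
# Groups in which elements of equal order are conjugate: the rows (helper802)

`IsOC G`: elements of equal order are conjugate. `IsAutOC S`: elements of equal order are conjugate under `MulAut S`.
`Sit S G N`: `G` is an `IsOC` group with a normal subgroup `N` isomorphic to `S` of even order, with trivial centraliser, and `G/N` has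
order `1`, `2` or `6`. `Row S`: this situation does not occur.
-/

set_option autoImplicit false

namespace Cfsg.Agent.H802.OC

open Subgroup

/-- Elements of equal order are conjugate. -/
def IsOC (G : Type*) [Group G] : Prop := ∀ x y : G, orderOf x = orderOf y → IsConj x y

/-- Elements of equal order are conjugate under the automorphism group. -/
def IsAutOC (S : Type*) [Group S] : Prop := ∀ x y : S, orderOf x = orderOf y → ∃ a : MulAut S, a x = y

/-- An `IsOC` group with a normal subgroup `N ≅ S` with trivial centraliser and `G/N` of order `1`, `2` or `6`. -/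
structure Sit (S : Type*) [Group S] (G : Type*) [Group G] (N : Subgroup G) : Prop where
  normal : N.Normal
  iso : Nonempty (↥N ≃* S)
  cent : centralizer (N : Set G) = ⊥
  oc : IsOC G
  quo : N = ⊤ ∨ ∃ H : Subgroup G, N ≤ H ∧ H.index = 2 ∧ (N.relIndex H = 1 ∨ N.relIndex H = 3)
  two : 2 ∣ Nat.card N

/-- There is no almost simple `IsOC` group with socle `S`. -/
def Row (S : Type*) [Group S] : Prop :=
  ∀ (G : Type) [Group G] [Finite G] (N : Subgroup G), Sit S G N → False

/-- There is no almost simple `IsOC` group with socle `S` and index `2` or `6`. -/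
def NoOuter (S : Type*) [Group S] : Prop :=
  ∀ (G : Type) [Group G] [Finite G] (N : Subgroup G), Sit S G N → ¬ 2 ∣ N.index

section transfer

variable {S S' : Type*} [Group S] [Group S']

theorem IsOC.congr (e : S ≃* S') (h : IsOC S) : IsOC S' := by
  intro x y hxy
  have h1 := h (e.symm x) (e.symm y) (by rw [MulEquiv.orderOf_eq, MulEquiv.orderOf_eq, hxy])
  obtain ⟨c, hc⟩ := isConj_iff.1 h1
  refine isConj_iff.2 ⟨e c, ?_⟩
  have h2 := congrArg e hc
  simpa using h2

theorem IsAutOC.congr (e : S ≃* S') (h : IsAutOC S) : IsAutOC S' := by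
  intro x y hxy
  obtain ⟨a, ha⟩ := h (e.symm x) (e.symm y) (by rw [MulEquiv.orderOf_eq, MulEquiv.orderOf_eq, hxy])
  refine ⟨(e.symm.trans a).trans e, ?_⟩
  show e (a (e.symm x)) = y
  rw [ha, e.apply_symm_apply]

theorem Sit.congr (e : S ≃* S') {G : Type*} [Group G] {N : Subgroup G} (h : Sit S G N) : Sit S' G N :=
  ⟨h.normal, ⟨h.iso.some.trans e⟩, h.cent, h.oc, h.quo, h.two⟩

theorem Row.congr (e : S ≃* S') (h : Row S) : Row S' := fun G _ _ N hN => h G N (hN.congr e.symm)

theorem NoOuter.congr (e : S ≃* S') (h : NoOuter S) : NoOuter S' := fun G _ _ N hN => h G N (hN.congr e.symm)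

end transfer

/-! ## From `G` to automorphisms of `S` -/

variable {S : Type*} [Group S]

theorem Sit.autOC {G : Type*} [Group G] {N : Subgroup G} (h : Sit S G N) : IsAutOC S := by
  have hn := h.normal
  obtain ⟨e⟩ := h.iso
  refine IsAutOC.congr e ?_
  intro x y hxy
  obtain ⟨g, hg⟩ := isConj_iff.1 (h.oc (x : G) (y : G) (by rw [orderOf_coe, orderOf_coe, hxy]))
  refine ⟨MulAut.conjNormal g, Subtype.ext ?_⟩
  rw [MulAut.conjNormal_apply, hg]

/-- Criterion (1). -/
theorem row_of_not_autOC (h : ¬ IsAutOC S) : Row S := fun _ _ _ _ hN => h hN.autOC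

/-- Criterion (1'): a characteristic property which separates two elements of the same order. -/
theorem not_autOC_of_pred (P : S → Prop) (hP : ∀ (a : MulAut S) (x : S), P x → P (a x)) {x y : S}
    (hxy : orderOf x = orderOf y) (hx : P x) (hy : ¬ P y) : ¬ IsAutOC S := by
  intro h
  obtain ⟨a, rfl⟩ := h x y hxy
  exact hy (hP a x hx)

theorem centralizer_map (a : MulAut S) (x : S) :
    (centralizer ({x} : Set S)).map (a : S →* S) = centralizer ({a x} : Set S) := by
  ext y
  rw [mem_map, mem_centralizer_singleton_iff]
  constructor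
  · rintro ⟨z, hz, rfl⟩
    rw [mem_centralizer_singleton_iff] at hz
    show a z * a x = a x * a z
    rw [← map_mul, hz, map_mul]
  · intro hy
    refine ⟨a.symm y, ?_, a.apply_symm_apply y⟩
    rw [mem_centralizer_singleton_iff]
    apply a.injective
    rw [map_mul, map_mul, a.apply_symm_apply, hy]

theorem card_centralizer_aut (a : MulAut S) (x : S) :
    Nat.card (centralizer ({a x} : Set S)) = Nat.card (centralizer ({x} : Set S)) := by
  rw [← centralizer_map a x]
  exact Nat.card_congr ((centralizer ({x} : Set S)).equivMapOfInjective (a : S →* S) a.injective).symm.toEquiv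

/-- Two elements of the same order whose centralisers have different orders. -/
def SizeGap (S : Type*) [Group S] : Prop :=
  ∃ x y : S, orderOf x = orderOf y ∧
    Nat.card (centralizer ({x} : Set S)) ≠ Nat.card (centralizer ({y} : Set S))

theorem SizeGap.congr {S' : Type*} [Group S'] (e : S ≃* S') (h : SizeGap S) : SizeGap S' := by
  obtain ⟨x, y, h1, h2⟩ := h
  have key : ∀ z : S, Nat.card (centralizer ({e z} : Set S')) = Nat.card (centralizer ({z} : Set S)) := by
    intro z
    apply Nat.card_congr
    refine
      { toFun := fun u => ⟨e.symm u, ?_⟩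
        invFun := fun u => ⟨e u, ?_⟩
        left_inv := fun u => Subtype.ext (e.apply_symm_apply u)
        right_inv := fun u => Subtype.ext (e.symm_apply_apply u) }
    · have hu := mem_centralizer_singleton_iff.1 u.2
      rw [mem_centralizer_singleton_iff]
      apply e.injective
      rw [map_mul, map_mul, e.apply_symm_apply, hu]
    · have hu := mem_centralizer_singleton_iff.1 u.2
      rw [mem_centralizer_singleton_iff, ← map_mul, hu, map_mul]
  exact ⟨e x, e y, by rw [MulEquiv.orderOf_eq, MulEquiv.orderOf_eq, h1], by rw [key, key]; exact h2⟩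

theorem not_autOC_of_sizeGap (h : SizeGap S) : ¬ IsAutOC S := by
  obtain ⟨x, y, h1, h2⟩ := h
  intro h
  obtain ⟨a, rfl⟩ := h x y h1
  exact h2 (card_centralizer_aut a x).symm

/-- Criterion (2): centralisers of different orders. -/
theorem row_of_sizeGap (h : SizeGap S) : Row S := row_of_not_autOC (not_autOC_of_sizeGap h)

/-- Criterion (2'): a number dividing the order of one centraliser and not of the other one. -/
theorem row_of_dvd {x y : S} (h1 : orderOf x = orderOf y) (d : ℕ) (hx : d ∣ Nat.card (centralizer ({x} : Set S)))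
    (hy : ¬ d ∣ Nat.card (centralizer ({y} : Set S))) : Row S :=
  row_of_sizeGap ⟨x, y, h1, fun h => hy (h ▸ hx)⟩

/-- Criterion (2''): a Sylow `p`-subgroup centralises `x` but no Sylow `p`-subgroup centralises `y`. -/
theorem row_of_pcentral [Finite S] (p : ℕ) [Fact p.Prime] {x y : S} (h1 : orderOf x = orderOf y) (P : Sylow p S)
    (hx : (P : Subgroup S) ≤ centralizer ({x} : Set S))
    (hy : ∀ Q : Sylow p S, ¬ (Q : Subgroup S) ≤ centralizer ({y} : Set S)) : Row S := by
  refine row_of_dvd h1 (Nat.card P) (card_dvd_of_le hx) ?_
  intro hd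
  -- a Sylow subgroup of the centraliser of `y` is a Sylow subgroup of `S`
  set C := centralizer ({y} : Set S) with hC
  obtain ⟨R⟩ : Nonempty (Sylow p ↥C) := inferInstance
  have h2 : Nat.card P = p ^ (Nat.card S).factorization p := P.card_eq_multiplicity
  have h3 : Nat.card R = p ^ (Nat.card C).factorization p := R.card_eq_multiplicity
  have hCpos : Nat.card C ≠ 0 := Nat.card_pos.ne'
  have hSpos : Nat.card S ≠ 0 := Nat.card_pos.ne'
  have h4 : (Nat.card C).factorization p = (Nat.card S).factorization p := by
    apply le_antisymm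
    · exact (Nat.factorization_le_iff_dvd hCpos hSpos).2 (card_subgroup_dvd_card C) p
    · exact ((Fact.out : p.Prime).pow_dvd_iff_le_factorization hCpos).1 (h2 ▸ hd)
  have h5 : Nat.card ((R : Subgroup C).map C.subtype) = p ^ (Nat.card S).factorization p := by
    rw [← h4, ← h3]
    exact Nat.card_congr ((R : Subgroup C).equivMapOfInjective C.subtype C.subtype_injective).symm.toEquiv
  refine hy (Sylow.ofCard _ h5) ?_
  rw [Sylow.coe_ofCard]
  exact map_subtype_le _

end Cfsg.Agent.H802.OC
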